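import Groth.Prelude.Def_GLin
import Mathlib

/-! Invariants of an action of a finite group scheme: integrality. -/

set_option autoImplicit false
universe u v w w'

open TensorProduct Polynomial

noncomputable section

namespace Groth.Agent.FinInv

variable {k : Type u} [CommRing k] {A : Type v} [CommRing A] [Algebra k A]
  {R : Type w} [CommRing R] [Algebra k R] {S : Type w'} [CommRing S] [Algebra k S]
  {ι : Type*} [Fintype ι] [DecidableEq ι]

theorem leftMulMatrix_map (b : Module.Basis ι k A) (h : R →ₐ[k] S) (y : R ⊗[k] A) :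
    Algebra.leftMulMatrix (Algebra.TensorProduct.basis S b) (Algebra.TensorProduct.map h (AlgHom.id k A) y) =
      (Algebra.leftMulMatrix (Algebra.TensorProduct.basis R b) y).map h := by
  ext i j
  simp only [Algebra.leftMulMatrix_eq_repr_mul, Matrix.map_apply]
  have e : ∀ z : R ⊗[k] A, (Algebra.TensorProduct.basis S b).repr (Algebra.TensorProduct.map h (AlgHom.id k A) z) i =
      h ((Algebra.TensorProduct.basis R b).repr z i) := by
    intro z
    induction z with
    | zero => simp
    | add p q hp hq => simp only [map_add, Finsupp.add_apply, hp, hq]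
    | tmul r a => simp [Algebra.smul_def, map_mul]
  rw [Algebra.TensorProduct.basis_apply, Algebra.TensorProduct.basis_apply, ← e,
    map_mul (Algebra.TensorProduct.map h (AlgHom.id k A)), Algebra.TensorProduct.map_tmul, map_one, AlgHom.id_apply]

end Groth.Agent.FinInv

namespace Groth.Agent.FinInv

variable {k : Type u} [CommRing k] {A : Type v} [CommRing A] [Bialgebra k A]
  {R : Type w} [CommRing R] [Algebra k R] [HopfRep.Comod k A R] [GLin.IsCoactAlg k A R]
  {ι : Type*} [Fintype ι] [DecidableEq ι]

/-- The characteristic polynomial of multiplication by a coaction. -/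
def chi (b : Module.Basis ι k A) (r : R) : R[X] :=
  (Algebra.leftMulMatrix (Algebra.TensorProduct.basis R b) (GLin.coactAlgHom k A R r)).charpoly

end Groth.Agent.FinInv

namespace Groth.Agent.FinInv

variable {k : Type u} [CommRing k] {A : Type v} [CommRing A] [HopfAlgebra k A]
  {R : Type w} [CommRing R] [Algebra k R] [HopfRep.Comod k A R] [GLin.IsCoactAlg k A R]
  {ι : Type*} [Fintype ι] [DecidableEq ι]

theorem charpoly_algEquiv {S : Type w'} [CommRing S] {E : Type*} [CommRing E] [Algebra S E]
    (b : Module.Basis ι S E) (θ : E ≃ₐ[S] E) (y : E) :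
    (Algebra.leftMulMatrix b (θ y)).charpoly = (Algebra.leftMulMatrix b y).charpoly := by
  haveI : Module.Free S E := .of_basis b
  haveI : Module.Finite S E := .of_basis b
  rw [Algebra.leftMulMatrix_apply, Algebra.leftMulMatrix_apply, LinearMap.charpoly_toMatrix,
    LinearMap.charpoly_toMatrix]
  rw [show Algebra.lmul S E (θ y) = θ.toLinearEquiv.conj (Algebra.lmul S E y) from LinearMap.ext fun z => by
    simp [LinearEquiv.conj_apply_apply]]
  exact LinearEquiv.charpoly_conj _ _

theorem coeff_chi_mem (b : Module.Basis ι k A) (r : R) (n : ℕ) : (chi b r).coeff n ∈ GLin.invariants k A R := by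
  let S := R ⊗[k] A
  let ρ : R →ₐ[k] S := GLin.coactAlgHom k A R
  let i : R →ₐ[k] S := Algebra.TensorProduct.includeLeft
  let inA : A →ₐ[k] S ⊗[k] A := Algebra.TensorProduct.includeRight
  -- the shear automorphism
  let m : A →ₐ[k] S ⊗[k] A :=
    (Algebra.TensorProduct.map (Algebra.TensorProduct.includeRight : A →ₐ[k] S) (AlgHom.id k A)).comp
      (Bialgebra.comulAlgHom k A)
  let m' : A →ₐ[k] S ⊗[k] A :=
    (Algebra.TensorProduct.map ((Algebra.TensorProduct.includeRight : A →ₐ[k] S).comp (HopfAlgebra.antipodeAlgHom k A))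
      (AlgHom.id k A)).comp (Bialgebra.comulAlgHom k A)
  let θ : S ⊗[k] A →ₐ[S] S ⊗[k] A := Algebra.TensorProduct.lift (Algebra.ofId S _) m fun _ _ => Commute.all _ _
  let θ' : S ⊗[k] A →ₐ[S] S ⊗[k] A := Algebra.TensorProduct.lift (Algebra.ofId S _) m' fun _ _ => Commute.all _ _
  have key : ∀ (p q : A →ₗ[k] A), (∀ a, LinearMap.mul' k A (TensorProduct.map p q (Coalgebra.comul (R := k) a)) =
      algebraMap k A (Coalgebra.counit (R := k) a)) →
      ∀ (a : A) (W : A ⊗[k] (A ⊗[k] A) →ₗ[k] S ⊗[k] A),
      (∀ x y z, W (x ⊗ₜ[k] (y ⊗ₜ[k] z)) = ((1 : R) ⊗ₜ[k] (p x * q y)) ⊗ₜ[k] z) →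
      W ((Coalgebra.comul (R := k)).lTensor A (Coalgebra.comul (R := k) a)) = inA a := by
    intro p q hpq a W hW
    rw [← Coalgebra.coassoc_apply]
    have e : ∀ z : A ⊗[k] A, W (TensorProduct.assoc k A A A ((Coalgebra.comul (R := k)).rTensor A z)) =
        inA (TensorProduct.lid k A ((Coalgebra.counit (R := k)).rTensor A z)) := by
      intro z
      induction z with
      | zero => simp
      | add x y hx hy => simp only [map_add, hx, hy]
      | tmul x z =>
        rw [LinearMap.rTensor_tmul, LinearMap.rTensor_tmul, TensorProduct.lid_tmul]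
        have h1 : ∀ w : A ⊗[k] A, W (TensorProduct.assoc k A A A (w ⊗ₜ[k] z)) =
            ((1 : R) ⊗ₜ[k] LinearMap.mul' k A (TensorProduct.map p q w)) ⊗ₜ[k] z := by
          intro w
          induction w with
          | zero => simp
          | add u v hu hv => simp only [TensorProduct.add_tmul, map_add, TensorProduct.tmul_add, hu, hv]
          | tmul u v => simp [hW]
        rw [h1, hpq, map_smul]
        show _ = Coalgebra.counit (R := k) x • (((1 : R) ⊗ₜ[k] (1 : A)) ⊗ₜ[k] z)
        rw [Algebra.algebraMap_eq_smul_one, TensorProduct.tmul_smul]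
        simp [TensorProduct.smul_tmul']
    rw [e, Coalgebra.rTensor_counit_comul, TensorProduct.lid_tmul, one_smul]
  have hθθ' : θ.comp θ' = AlgHom.id S _ := by
    refine Algebra.TensorProduct.ext (Subsingleton.elim _ _) (AlgHom.ext fun a => ?_)
    have h := key (HopfAlgebra.antipode k) LinearMap.id
      (fun a => HopfAlgebra.mul_antipode_rTensor_comul_apply a) a
      (LinearMap.mul' k (S ⊗[k] A) ∘ₗ TensorProduct.map
        ((Algebra.TensorProduct.includeLeft : S →ₐ[k] S ⊗[k] A).toLinearMap ∘ₗ
          (Algebra.TensorProduct.includeRight : A →ₐ[k] S).toLinearMap ∘ₗ HopfAlgebra.antipode k)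
        (Algebra.TensorProduct.map (Algebra.TensorProduct.includeRight : A →ₐ[k] S) (AlgHom.id k A)).toLinearMap)
      (fun x y z => by simp [Algebra.TensorProduct.tmul_mul_tmul, S])
    refine Eq.trans ?_ h
    simp only [θ, θ', m, m', AlgHom.comp_apply, AlgHom.restrictScalars_apply, Algebra.TensorProduct.includeRight_apply,
      Algebra.TensorProduct.lift_tmul, map_one, one_mul, Bialgebra.comulAlgHom_apply, AlgHom.id_apply]
    generalize Coalgebra.comul (R := k) a = w
    induction w with
    | zero => simp
    | add u v hu hv => simp only [map_add, hu, hv]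
    | tmul u v =>
      simp only [Algebra.TensorProduct.map_tmul, AlgHom.comp_apply, Algebra.TensorProduct.lift_tmul, AlgHom.id_apply,
        LinearMap.lTensor_tmul, LinearMap.comp_apply, TensorProduct.map_tmul, LinearMap.mul'_apply]
      simp [Algebra.TensorProduct.algebraMap_apply, Algebra.ofId_apply, HopfAlgebra.antipodeAlgHom_apply]
      rfl
  have hθ'θ : θ'.comp θ = AlgHom.id S _ := by
    refine Algebra.TensorProduct.ext (Subsingleton.elim _ _) (AlgHom.ext fun a => ?_)
    have h := key LinearMap.id (HopfAlgebra.antipode k)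
      (fun a => HopfAlgebra.mul_antipode_lTensor_comul_apply a) a
      (LinearMap.mul' k (S ⊗[k] A) ∘ₗ TensorProduct.map
        ((Algebra.TensorProduct.includeLeft : S →ₐ[k] S ⊗[k] A).toLinearMap ∘ₗ
          (Algebra.TensorProduct.includeRight : A →ₐ[k] S).toLinearMap)
        (Algebra.TensorProduct.map ((Algebra.TensorProduct.includeRight : A →ₐ[k] S).comp
          (HopfAlgebra.antipodeAlgHom k A)) (AlgHom.id k A)).toLinearMap)
      (fun x y z => by simp [Algebra.TensorProduct.tmul_mul_tmul, S])
    refine Eq.trans ?_ h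
    simp only [θ, θ', m, m', AlgHom.comp_apply, AlgHom.restrictScalars_apply, Algebra.TensorProduct.includeRight_apply,
      Algebra.TensorProduct.lift_tmul, map_one, one_mul, Bialgebra.comulAlgHom_apply, AlgHom.id_apply]
    generalize Coalgebra.comul (R := k) a = w
    induction w with
    | zero => simp
    | add u v hu hv => simp only [map_add, hu, hv]
    | tmul u v =>
      simp only [Algebra.TensorProduct.map_tmul, AlgHom.comp_apply, Algebra.TensorProduct.lift_tmul, AlgHom.id_apply,
        LinearMap.lTensor_tmul, LinearMap.comp_apply, TensorProduct.map_tmul, LinearMap.mul'_apply]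
      simp [Algebra.TensorProduct.algebraMap_apply, Algebra.ofId_apply, HopfAlgebra.antipodeAlgHom_apply]
      rfl
  let θe : (S ⊗[k] A) ≃ₐ[S] (S ⊗[k] A) := AlgEquiv.ofAlgHom θ θ' hθθ' hθ'θ
  have hθρ : θ (Algebra.TensorProduct.map i (AlgHom.id k A) (ρ r)) = Algebra.TensorProduct.map ρ (AlgHom.id k A) (ρ r) := by
    have hc := LinearMap.congr_fun (HopfRep.Comod.coassoc (k := k) (A := A) (V := R)) r
    simp only [LinearMap.comp_apply, LinearEquiv.coe_coe] at hc
    have e1 : ∀ z : R ⊗[k] A, θ (Algebra.TensorProduct.map i (AlgHom.id k A) z) =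
        (TensorProduct.assoc k R A A).symm ((Coalgebra.comul (R := k)).lTensor R z) := by
      intro z
      induction z with
      | zero => simp
      | add p q hp hq => simp only [map_add, hp, hq]
      | tmul x a =>
        simp only [θ, m, i, Algebra.TensorProduct.map_tmul, Algebra.TensorProduct.lift_tmul, AlgHom.id_apply,
          AlgHom.comp_apply, Bialgebra.comulAlgHom_apply, LinearMap.lTensor_tmul,
          Algebra.TensorProduct.includeLeft_apply, Algebra.ofId_apply, Algebra.TensorProduct.algebraMap_apply]
        generalize Coalgebra.comul (R := k) a = w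
        induction w with
        | zero => simp
        | add u v hu hv => simp only [TensorProduct.tmul_add, map_add, mul_add, hu, hv]
        | tmul u v => simp [Algebra.TensorProduct.tmul_mul_tmul, S]
    rw [e1, show (Coalgebra.comul (R := k)).lTensor R (ρ r) =
      TensorProduct.assoc k R A A ((HopfRep.Comod.coact (k := k) (A := A)).rTensor A (ρ r)) from hc.symm,
      LinearEquiv.symm_apply_apply]
    have e2 : ∀ z : R ⊗[k] A, (HopfRep.Comod.coact (k := k) (A := A)).rTensor A z =
        Algebra.TensorProduct.map ρ (AlgHom.id k A) z := by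
      intro z
      induction z with
      | zero => simp
      | add p q hp hq => simp only [map_add, hp, hq]
      | tmul x a => simp [ρ]; rfl
    exact e2 (ρ r)
  have hcp : (chi b r).map (i : R →+* S) = (chi b r).map (ρ : R →+* S) := by
    rw [chi, ← Matrix.charpoly_map, ← Matrix.charpoly_map]
    show ((Algebra.leftMulMatrix _ _).map i).charpoly = ((Algebra.leftMulMatrix _ _).map ρ).charpoly
    rw [← leftMulMatrix_map, ← leftMulMatrix_map, ← hθρ]
    exact (charpoly_algEquiv _ θe _).symm
  have h := congrArg (fun p => p.coeff n) hcp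
  simp only [Polynomial.coeff_map] at h
  rw [GLin.mem_invariants_iff]
  exact h.symm

theorem monic_chi (b : Module.Basis ι k A) (r : R) : (chi b r).Monic := Matrix.charpoly_monic _

theorem aeval_chi (b : Module.Basis ι k A) (r : R) : (chi b r).eval r = 0 := by
  haveI : Module.Free R (R ⊗[k] A) := .of_basis (Algebra.TensorProduct.basis R b)
  have h0 : Polynomial.aeval (GLin.coactAlgHom k A R r) (chi b r) = 0 := by
    refine Algebra.leftMulMatrix_injective (Algebra.TensorProduct.basis R b) ?_
    rw [map_zero, ← Polynomial.aeval_algHom_apply]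
    exact Matrix.aeval_self_charpoly _
  let e : R ⊗[k] A →ₐ[R] R := Algebra.TensorProduct.lift (AlgHom.id R R)
    ((Algebra.ofId k R).comp (Bialgebra.counitAlgHom k A)) fun _ _ => Commute.all _ _
  have he : e (GLin.coactAlgHom k A R r) = r := by
    have hc := LinearMap.congr_fun (HopfRep.Comod.counit_comp (k := k) (A := A) (V := R)) r
    simp only [LinearMap.comp_apply] at hc
    have e1 : ∀ z : R ⊗[k] A, e z = TensorProduct.rid k R ((Coalgebra.counit (R := k)).lTensor R z) := by
      intro z
      induction z with
      | zero => simp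
      | add p q hp hq => simp only [map_add, hp, hq]
      | tmul x a => simp [e, Algebra.smul_def, mul_comm]
    rw [e1, GLin.coactAlgHom_apply, hc]
    simp
  have h1 := congrArg e h0
  rwa [← Polynomial.aeval_algHom_apply, he, map_zero, Polynomial.coe_aeval_eq_eval] at h1

theorem isIntegral (b : Module.Basis ι k A) (r : R) : IsIntegral (GLin.invariants k A R) r := by
  have hl : chi b r ∈ Polynomial.lifts (algebraMap (GLin.invariants k A R) R) :=
    (Polynomial.lifts_iff_coeff_lifts _).mpr fun n => ⟨⟨_, coeff_chi_mem b r n⟩, rfl⟩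
  rcases subsingleton_or_nontrivial R with _ | _
  · exact ⟨1, Polynomial.monic_one, Subsingleton.elim _ _⟩
  obtain ⟨q, hq, -, hqm⟩ := Polynomial.lifts_and_degree_eq_and_monic hl (monic_chi b r)
  refine ⟨q, hqm, ?_⟩
  rw [← Polynomial.eval_map, hq]
  exact aeval_chi b r

end Groth.Agent.FinInv
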